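import Cfsg.Agent.H58.Util
import Cfsg.Agent.H17.Mod.B137ME0

set_option autoImplicit false
set_option Elab.async false
set_option maxRecDepth 100000

namespace Cfsg.Agent.H17.B137M

open Cfsg.Agent.H58

theorem netsOK : NetsOK nets 137632 := netsOK_of (show ∀ x < 11, _ from (blocks_cons (blocks_cons (blocks_cons (blocks_cons (blocks_cons (blocks_cons (blocks_cons (blocks_cons (blocks_cons (blocks_cons (blocks_cons (blocks_nil _) ne0) ne1) ne2) ne3) ne4) ne5) ne6) ne7) ne8) ne9) ne10))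

theorem ruleN : RuleOK (elN nets) rels iv :=
  ruleOK_of_eqs (pairs := (pairs0 ++ (pairs1 ++ (pairs2 ++ pairs3)))) rfl (forall_mem_append_of (eqs_sound netsOK (by decide) (blocks_cons (blocks_cons (blocks_cons (blocks_cons (blocks_cons (blocks_cons (blocks_cons (blocks_cons (blocks_cons (blocks_cons (blocks_cons (blocks_cons (blocks_cons (blocks_cons (blocks_cons (blocks_cons (blocks_cons (blocks_cons (blocks_nil _) e0_0) e0_1) e0_2) e0_3) e0_4) e0_5) e0_6) e0_7) e0_8) e0_9) e0_10) e0_11) e0_12) e0_13) e0_14) e0_15) e0_16) e0_17)) (forall_mem_append_of (eqs_sound netsOK (by decide) (blocks_cons (blocks_cons (blocks_cons (blocks_cons (blocks_cons (blocks_cons (blocks_cons (blocks_cons (blocks_cons (blocks_cons (blocks_cons (blocks_cons (blocks_cons (blocks_cons (blocks_cons (blocks_cons (blocks_cons (blocks_cons (blocks_nil _) e1_0) e1_1) e1_2) e1_3) e1_4) e1_5) e1_6) e1_7) e1_8) e1_9) e1_10) e1_11) e1_12) e1_13) e1_14) e1_15) e1_16) e1_17)) (forall_mem_append_of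 (eqs_sound netsOK (by decide) (blocks_cons (blocks_cons (blocks_cons (blocks_cons (blocks_cons (blocks_cons (blocks_cons (blocks_cons (blocks_cons (blocks_cons (blocks_cons (blocks_cons (blocks_cons (blocks_cons (blocks_cons (blocks_cons (blocks_cons (blocks_cons (blocks_nil _) e2_0) e2_1) e2_2) e2_3) e2_4) e2_5) e2_6) e2_7) e2_8) e2_9) e2_10) e2_11) e2_12) e2_13) e2_14) e2_15) e2_16) e2_17)) (eqs_sound netsOK (by decide) (blocks_cons (blocks_cons (blocks_cons (blocks_cons (blocks_cons (blocks_cons (blocks_cons (blocks_cons (blocks_cons (blocks_cons (blocks_cons (blocks_cons (blocks_cons (blocks_cons (blocks_cons (blocks_cons (blocks_cons (blocks_cons (blocks_nil _) e3_0) e3_1) e3_2) e3_3) e3_4) e3_5) e3_6) e3_7) e3_8) e3_9) e3_10) e3_11) e3_12) e3_13) e3_14) e3_15) e3_16) e3_17))))) (by decide +kernel)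

def wit : List (Nat × Nat) := [(0, 1), (1, 0), (3, 0), (5, 0), (7, 0), (13, 0), (9, 0), (11, 0), (17, 0), (15, 0), (1, 1), (0, 2), (19, 0), (21, 0), (23, 0), (29, 0), (25, 0), (27, 0), (33, 0), (31, 0), (3, 1), (19, 1), (0, 3), (35, 0), (37, 0), (43, 0), (39, 0), (41, 0), (47, 0), (45, 0), (5, 1), (21, 1), (35, 1), (0, 4), (49, 0), (55, 0), (51, 0), (53, 0), (59, 0), (57, 0), (7, 1), (23, 1), (37, 1), (49, 1), (0, 5), (65, 0), (61, 0), (63, 0), (69, 0), (67, 0), (13, 1), (29, 1), (43, 1), (55, 1), (65, 1), (0, 8), (73, 1), (79, 1), (87, 0), (85, 0), (9, 1), (25, 1), (39, 1), (51, 1), (61, 1), (73, 0), (0, 6), (71, 0), (77, 0), (75, 0), (11, 1), (27, 1), (41, 1), (53, 1), (63, 1), (79, 0), (71, 1), (0, 7), (83, 0), (81, 0), (17, 1), (33, 1), (47, 1), (59, 1), (69, 1), (87, 1), (77, 1), (83, 1), (0, 10), (89, 1), (15, 1), (31, 1), (45, 1), (57, 1), (67, 1), (85, 1), (75, 1), (81, 1), (89, 0), (0, 9), (91, 0), (93, 0)]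

end Cfsg.Agent.H17.B137M
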