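import Cfsg.Agent.H58.Util

set_option autoImplicit false
set_option Elab.async false
set_option maxRecDepth 100000
set_option exponentiation.threshold 400000

namespace Cfsg.Agent.H17.HnM1

open Cfsg Cfsg.Agent.H58 Cfsg.Agent.H17

def m1_0 : Nat := nat_lit 0xe60000000000000000e600000000000000e600000000000000e600000000
def m1_1 : Nat := nat_lit 0xee0000004000000000ee00000040000000ee00000040000000ee000000400000
def m1_2 : Nat := nat_lit 0x800090002c00500000800090002c005000800090002c005000800090002c005000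
def m1_3 : Nat := nat_lit 0x4080606080c00040e04080606080c000404080606080c000404080606080c00040e
def m1_4 : Nat := nat_lit 0x20022200002000202020022200002000202002220000200020200222000020002020
def m1_5 : Nat := nat_lit 0x40011401501000401040011401501000404001140150100040400114015010004010
def m1_6 : Nat := nat_lit 0x22022301012300221022022301012300222202230101230022220223010123002210
def m1_7 : Nat := nat_lit 0x408060e080c0f040e0408060e080c0f040408060e080c0f040408060e080c0f040e
def m1_8 : Nat := nat_lit 0x8000f7002c005000008000f7002c0050008000f7002c0050008000f7002c005000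
def m1_9 : Nat := nat_lit 0xee0000004000000000ee00000040000000ee00000040000000ee000000400000
def m1_10 : Nat := nat_lit 0xe60000000000000000e600000000000000e600000000000000e600000000
def n1 : Net := (Net.cons m1_0 (nat_lit 32) (Net.cons m1_1 (nat_lit 16) (Net.cons m1_2 (nat_lit 8) (Net.cons m1_3 (nat_lit 4) (Net.cons m1_4 (nat_lit 2) (Net.cons m1_5 (nat_lit 1) (Net.cons m1_6 (nat_lit 2) (Net.cons m1_7 (nat_lit 4) (Net.cons m1_8 (nat_lit 8) (Net.cons m1_9 (nat_lit 16) (Net.cons m1_10 (nat_lit 32) Net.nil)))))))))))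
def n2 : Net := (Net.cons m1_10 (nat_lit 32) (Net.cons m1_9 (nat_lit 16) (Net.cons m1_8 (nat_lit 8) (Net.cons m1_7 (nat_lit 4) (Net.cons m1_6 (nat_lit 2) (Net.cons m1_5 (nat_lit 1) (Net.cons m1_4 (nat_lit 2) (Net.cons m1_3 (nat_lit 4) (Net.cons m1_2 (nat_lit 8) (Net.cons m1_1 (nat_lit 16) (Net.cons m1_0 (nat_lit 32) Net.nil)))))))))))
def m3_0 : Nat := nat_lit 0xf98000000000000000f980000000000000f980000000000000f980000000
def m3_1 : Nat := nat_lit 0xff8000007ffa000000ff8000007ffa0000ff8000007ffa0000ff8000007ffa00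
def m3_2 : Nat := nat_lit 0xa80048008800380000a800480088003800a800480088003800a800480088003800
def m3_3 : Nat := nat_lit 0xc00040808080600000c000408080806000c000408080806000c0004080808060000
def m3_4 : Nat := nat_lit 0x202002200000000000202002200000000020200220000000002020022000000
def m3_5 : Nat := nat_lit 0x1011144011440010001011144011440010101114401144001010111440114400100
def m3_6 : Nat := nat_lit 0x12202300030312010012202300030312011220230003031201122023000303120100
def m3_7 : Nat := nat_lit 0x9080c06070f0c000009080c06070f0c0009080c06070f0c0009080c06070f0c0000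
def m3_8 : Nat := nat_lit 0xa8003900e200380000a8003900e2003800a8003900e2003800a8003900e2003800
def m3_9 : Nat := nat_lit 0xff8000007ffc000000ff8000007ffc0000ff8000007ffc0000ff8000007ffc00
def m3_10 : Nat := nat_lit 0xf98000000000000000f980000000000000f980000000000000f980000000
def n3 : Net := (Net.cons m3_0 (nat_lit 32) (Net.cons m3_1 (nat_lit 16) (Net.cons m3_2 (nat_lit 8) (Net.cons m3_3 (nat_lit 4) (Net.cons m3_4 (nat_lit 2) (Net.cons m3_5 (nat_lit 1) (Net.cons m3_6 (nat_lit 2) (Net.cons m3_7 (nat_lit 4) (Net.cons m3_8 (nat_lit 8) (Net.cons m3_9 (nat_lit 16) (Net.cons m3_10 (nat_lit 32) Net.nil)))))))))))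
def n4 : Net := (Net.cons m3_10 (nat_lit 32) (Net.cons m3_9 (nat_lit 16) (Net.cons m3_8 (nat_lit 8) (Net.cons m3_7 (nat_lit 4) (Net.cons m3_6 (nat_lit 2) (Net.cons m3_5 (nat_lit 1) (Net.cons m3_4 (nat_lit 2) (Net.cons m3_3 (nat_lit 4) (Net.cons m3_2 (nat_lit 8) (Net.cons m3_1 (nat_lit 16) (Net.cons m3_0 (nat_lit 32) Net.nil)))))))))))
def m6_0 : Nat := nat_lit 0xc0000000000000000000000000000000000000000000000000c
def m6_1 : Nat := nat_lit 0x2000000000000000000000000000000000000000000000000020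
def m6_2 : Nat := nat_lit 0x1100000000000000000000000000000000000000000000000011
def m6_3 : Nat := nat_lit 0x3000000000000000000000000000000000000000000000000030
def m6_4 : Nat := nat_lit 0xd0000000000000000000000000000000000000000000000000d
def n6 : Net := (Net.cons m6_0 (nat_lit 4) (Net.cons m6_1 (nat_lit 2) (Net.cons m6_2 (nat_lit 1) (Net.cons m6_3 (nat_lit 2) (Net.cons m6_4 (nat_lit 4) Net.nil)))))
def n7 : Net := (Net.cons m6_4 (nat_lit 4) (Net.cons m6_3 (nat_lit 2) (Net.cons m6_2 (nat_lit 1) (Net.cons m6_1 (nat_lit 2) (Net.cons m6_0 (nat_lit 4) Net.nil)))))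
def m8_0 : Nat := nat_lit 0xf12da9680000000000f12da96800000000f12da96800000000f12da96800
def m8_1 : Nat := nat_lit 0x518e00000b60000000518e00000b600000518e00000b600000518e00000b6000
def m8_2 : Nat := nat_lit 0xb000c8000800100000b000c80008001000b000c80008001000b000c80008001000
def m8_3 : Nat := nat_lit 0xe06000000000a0c000e06000000000a0c0e06000000000a0c0e06000000000a0c00
def m8_4 : Nat := nat_lit 0x2000000020002000002000000020002000200000002000200020000000200020000
def m8_5 : Nat := nat_lit 0x1101441045114040001101441045114040110144104511404011014410451140400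
def m8_6 : Nat := nat_lit 0x1301010021222020001301010021222020130101002122202013010100212220200
def m8_7 : Nat := nat_lit 0xe05010b0002000c000e05010b0002000c0e05010b0002000c0e05010b0002000c00
def m8_8 : Nat := nat_lit 0x3100bf000b005e00003100bf000b005e003100bf000b005e003100bf000b005e00
def m8_9 : Nat := nat_lit 0x6085000003700000006085000003700000608500000370000060850000037000
def m8_10 : Nat := nat_lit 0xf12cffee0000000000f12cffee00000000f12cffee00000000f12cffee00
def n8 : Net := (Net.cons m8_0 (nat_lit 32) (Net.cons m8_1 (nat_lit 16) (Net.cons m8_2 (nat_lit 8) (Net.cons m8_3 (nat_lit 4) (Net.cons m8_4 (nat_lit 2) (Net.cons m8_5 (nat_lit 1) (Net.cons m8_6 (nat_lit 2) (Net.cons m8_7 (nat_lit 4) (Net.cons m8_8 (nat_lit 8) (Net.cons m8_9 (nat_lit 16) (Net.cons m8_10 (nat_lit 32) Net.nil)))))))))))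
def n9 : Net := (Net.cons m8_10 (nat_lit 32) (Net.cons m8_9 (nat_lit 16) (Net.cons m8_8 (nat_lit 8) (Net.cons m8_7 (nat_lit 4) (Net.cons m8_6 (nat_lit 2) (Net.cons m8_5 (nat_lit 1) (Net.cons m8_4 (nat_lit 2) (Net.cons m8_3 (nat_lit 4) (Net.cons m8_2 (nat_lit 8) (Net.cons m8_1 (nat_lit 16) (Net.cons m8_0 (nat_lit 32) Net.nil)))))))))))
def m10_0 : Nat := nat_lit 0x800000000000000000000000000000000000000000000000008
def m10_1 : Nat := nat_lit 0x2200000000000000000000000000000000000000000000000022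
def m10_2 : Nat := nat_lit 0x1400000000000000000000000000000000000000000000000014
def m10_3 : Nat := nat_lit 0x2200000000000000000000000000000000000000000000000022
def m10_4 : Nat := nat_lit 0x800000000000000000000000000000000000000000000000008
def n10 : Net := (Net.cons m10_0 (nat_lit 4) (Net.cons m10_1 (nat_lit 2) (Net.cons m10_2 (nat_lit 1) (Net.cons m10_3 (nat_lit 2) (Net.cons m10_4 (nat_lit 4) Net.nil)))))
def n11 : Net := (Net.cons m10_4 (nat_lit 4) (Net.cons m10_3 (nat_lit 2) (Net.cons m10_2 (nat_lit 1) (Net.cons m10_1 (nat_lit 2) (Net.cons m10_0 (nat_lit 4) Net.nil)))))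
def m12_0 : Nat := nat_lit 0x73cfa694000000000073cfa6940000000073cfa6940000000073cfa69400
def m12_1 : Nat := nat_lit 0x5206000040340000005206000040340000520600004034000052060000403400
def m12_2 : Nat := nat_lit 0xf8001400d000240000f8001400d0002400f8001400d0002400f8001400d0002400
def m12_3 : Nat := nat_lit 0x80208000c06000200080208000c060002080208000c060002080208000c06000200
def m12_4 : Nat := nat_lit 0x2220020200200000002220020200200000222002020020000022200202002000000
def m12_5 : Nat := nat_lit 0x41445515100401050041445515100401054144551510040105414455151004010500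
def m12_6 : Nat := nat_lit 0x323032302320330000323032302320330032303230232033003230323023203300
def m12_7 : Nat := nat_lit 0x800060e0c000204000800060e0c0002040800060e0c0002040800060e0c00020400
def m12_8 : Nat := nat_lit 0xf8004800d400170000f8004800d4001700f8004800d4001700f8004800d4001700
def m12_9 : Nat := nat_lit 0x62420000cc2700000062420000cc27000062420000cc27000062420000cc2700
def m12_10 : Nat := nat_lit 0x73cf8e66000000000073cf8e660000000073cf8e660000000073cf8e6600
def n12 : Net := (Net.cons m12_0 (nat_lit 32) (Net.cons m12_1 (nat_lit 16) (Net.cons m12_2 (nat_lit 8) (Net.cons m12_3 (nat_lit 4) (Net.cons m12_4 (nat_lit 2) (Net.cons m12_5 (nat_lit 1) (Net.cons m12_6 (nat_lit 2) (Net.cons m12_7 (nat_lit 4) (Net.cons m12_8 (nat_lit 8) (Net.cons m12_9 (nat_lit 16) (Net.cons m12_10 (nat_lit 32) Net.nil)))))))))))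
def n13 : Net := (Net.cons m12_10 (nat_lit 32) (Net.cons m12_9 (nat_lit 16) (Net.cons m12_8 (nat_lit 8) (Net.cons m12_7 (nat_lit 4) (Net.cons m12_6 (nat_lit 2) (Net.cons m12_5 (nat_lit 1) (Net.cons m12_4 (nat_lit 2) (Net.cons m12_3 (nat_lit 4) (Net.cons m12_2 (nat_lit 8) (Net.cons m12_1 (nat_lit 16) (Net.cons m12_0 (nat_lit 32) Net.nil)))))))))))
def m14_0 : Nat := nat_lit 0x980000000000000000980000000000000098000000000000009800000000
def m14_1 : Nat := nat_lit 0xb84000001400000000b840000014000000b840000014000000b8400000140000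
def m14_2 : Nat := nat_lit 0xc000b8002800580000c000b80028005800c000b80028005800c000b80028005800
def m14_3 : Nat := nat_lit 0x808000e0c02060a000808000e0c02060a0808000e0c02060a0808000e0c02060a00
def m14_4 : Nat := nat_lit 0x202020220000000000202020220000000020202022000000002020202200000
def m14_5 : Nat := nat_lit 0x101440415410000000101440415410000010144041541000001014404154100
def m14_6 : Nat := nat_lit 0x30023232121230000030023232121230003002323212123000300232321212300000
def m14_7 : Nat := nat_lit 0x808000e0a040a0a000808000e0a040a0a0808000e0a040a0a0808000e0a040a0a00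
def m14_8 : Nat := nat_lit 0xc000b8005e00790000c000b8005e007900c000b8005e007900c000b8005e007900
def m14_9 : Nat := nat_lit 0xb84000001018000000b840000010180000b840000010180000b8400000101800
def m14_10 : Nat := nat_lit 0x980000000000000000980000000000000098000000000000009800000000
def n14 : Net := (Net.cons m14_0 (nat_lit 32) (Net.cons m14_1 (nat_lit 16) (Net.cons m14_2 (nat_lit 8) (Net.cons m14_3 (nat_lit 4) (Net.cons m14_4 (nat_lit 2) (Net.cons m14_5 (nat_lit 1) (Net.cons m14_6 (nat_lit 2) (Net.cons m14_7 (nat_lit 4) (Net.cons m14_8 (nat_lit 8) (Net.cons m14_9 (nat_lit 16) (Net.cons m14_10 (nat_lit 32) Net.nil)))))))))))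
def n15 : Net := (Net.cons m14_10 (nat_lit 32) (Net.cons m14_9 (nat_lit 16) (Net.cons m14_8 (nat_lit 8) (Net.cons m14_7 (nat_lit 4) (Net.cons m14_6 (nat_lit 2) (Net.cons m14_5 (nat_lit 1) (Net.cons m14_4 (nat_lit 2) (Net.cons m14_3 (nat_lit 4) (Net.cons m14_2 (nat_lit 8) (Net.cons m14_1 (nat_lit 16) (Net.cons m14_0 (nat_lit 32) Net.nil)))))))))))

def nets : List Net := [Net.nil, n1, n2, n3, n4, Net.nil, n6, n7, n8, n9, n10, n11, n12, n13, n14, n15]

def iv : Nat := 82494142169014799965759340548224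

def rels : List (List Nat) := [[3, 3, 3, 3, 3, 3],
  [1, 1, 3, 1, 1, 4],
  [2, 4, 1, 3, 2, 4, 1, 3, 2, 4, 1, 3],
  [2, 3, 3, 1, 3, 3, 3, 2, 3, 3, 1, 3, 3, 3, 2, 3, 3, 1, 3, 3, 3],
  [1, 3, 1, 3, 1, 3, 1, 3, 1, 3, 1, 3, 1, 3, 1, 3],
  [1, 3, 1, 3, 3, 3, 1, 3, 1, 3, 3, 3, 1, 3, 1, 3, 3, 3, 1, 3, 1, 3, 3, 3],
  [6, 6, 6, 6, 6],
  [2, 6, 1, 6, 6],
  [7, 4, 6, 3],
  [9, 3, 1, 3, 1, 3, 3, 1, 4, 1, 3, 1, 3, 1, 3, 3, 1, 4, 1, 3, 1, 3, 1, 3, 3, 1, 4, 1],
  [11, 1, 1],
  [13, 2, 3, 1],
  [15, 12, 12, 12],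
  [10, 10],
  [10, 3, 11, 4],
  [14, 14],
  [14, 3, 14, 3, 14, 3, 14, 3],
  [14, 3, 3, 14, 3, 3, 14, 3, 3],
  [10, 14, 11, 15],
  [2, 3, 3, 2, 4, 2, 4, 2, 3, 3, 1, 4, 4, 1, 3, 1, 3, 1, 4, 4]]

def pairs0 : List (List Nat × List Nat) := [([2, 1], []),
  ([1, 2], []),
  ([4, 3], []),
  ([3, 4], []),
  ([5, 5], []),
  ([7, 6], []),
  ([6, 7], []),
  ([9, 8], []),
  ([8, 9], []),
  ([11, 10], []),
  ([10, 11], []),
  ([13, 12], []),
  ([12, 13], []),
  ([15, 14], []),
  ([14, 15], []),
  ([17, 16], []),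
  ([16, 17], []),
  ([3, 3, 3], [4, 4, 4]),
  ([1, 1, 3], [3, 2, 2]),
  ([2, 4, 1, 3, 2, 4], [4, 2, 3, 1, 4, 2]),
  ([2, 3, 3, 1, 3, 3, 3, 2, 3, 3, 1], [4, 4, 4, 2, 4, 4, 1, 4, 4, 4]),
  ([1, 3, 1, 3, 1, 3, 1, 3], [4, 2, 4, 2, 4, 2, 4, 2]),
  ([1, 3, 1, 3, 3, 3, 1, 3, 1, 3, 3, 3], [4, 4, 4, 2, 4, 2, 4, 4, 4, 2, 4, 2]),
  ([6, 6, 6], [7, 7]),
  ([2, 6, 1], [7, 7]),
  ([7, 4], [4, 7]),
  ([9, 3, 1, 3, 1, 3, 3, 1, 4, 1, 3, 1, 3, 1], [2, 3, 2, 4, 4, 2, 4, 2, 4, 2, 3, 2, 4, 4]),
  ([11, 1], [2]),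
  ([13, 2], [2, 4]),
  ([15, 12], [13, 13]),
  ([10], [11]),
  ([10, 3], [3, 10]),
  ([14], [15]),
  ([14, 3, 14, 3], [4, 15, 4, 15]),
  ([14, 3, 3, 14, 3], [4, 4, 15, 4]),
  ([10, 14], [14, 10]),
  ([2, 3, 3, 2, 4, 2, 4, 2, 3, 3], [3, 3, 2, 4, 2, 4, 2, 3, 3, 2])]
theorem ne0 : netErr 272 (getNet nets 0) = 0 := by decide +kernel
theorem ne1 : netErr 272 (getNet nets 1) = 0 := by decide +kernel
theorem ne2 : netErr 272 (getNet nets 2) = 0 := by decide +kernel
theorem ne3 : netErr 272 (getNet nets 3) = 0 := by decide +kernel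
theorem ne4 : netErr 272 (getNet nets 4) = 0 := by decide +kernel
theorem ne5 : netErr 272 (getNet nets 5) = 0 := by decide +kernel
theorem ne6 : netErr 272 (getNet nets 6) = 0 := by decide +kernel
theorem ne7 : netErr 272 (getNet nets 7) = 0 := by decide +kernel
theorem ne8 : netErr 272 (getNet nets 8) = 0 := by decide +kernel
theorem ne9 : netErr 272 (getNet nets 9) = 0 := by decide +kernel
theorem ne10 : netErr 272 (getNet nets 10) = 0 := by decide +kernel
theorem ne11 : netErr 272 (getNet nets 11) = 0 := by decide +kernel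
theorem ne12 : netErr 272 (getNet nets 12) = 0 := by decide +kernel
theorem ne13 : netErr 272 (getNet nets 13) = 0 := by decide +kernel
theorem ne14 : netErr 272 (getNet nets 14) = 0 := by decide +kernel
theorem ne15 : netErr 272 (getNet nets 15) = 0 := by decide +kernel
theorem netsOK : NetsOK nets 272 := netsOK_of (show ∀ x < 16, _ from (blocks_cons (blocks_cons (blocks_cons (blocks_cons (blocks_cons (blocks_cons (blocks_cons (blocks_cons (blocks_cons (blocks_cons (blocks_cons (blocks_cons (blocks_cons (blocks_cons (blocks_cons (blocks_cons (blocks_nil _) ne0) ne1) ne2) ne3) ne4) ne5) ne6) ne7) ne8) ne9) ne10) ne11) ne12) ne13) ne14) ne15))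

theorem e0_0 : eqsAt nets 272 9 pairs0 0 = 0 := by decide +kernel
theorem e0_1 : eqsAt nets 272 9 pairs0 1 = 0 := by decide +kernel
theorem e0_2 : eqsAt nets 272 9 pairs0 2 = 0 := by decide +kernel
theorem e0_3 : eqsAt nets 272 9 pairs0 3 = 0 := by decide +kernel
theorem e0_4 : eqsAt nets 272 9 pairs0 4 = 0 := by decide +kernel
theorem e0_5 : eqsAt nets 272 9 pairs0 5 = 0 := by decide +kernel
theorem e0_6 : eqsAt nets 272 9 pairs0 6 = 0 := by decide +kernel
theorem e0_7 : eqsAt nets 272 9 pairs0 7 = 0 := by decide +kernel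
theorem e0_8 : eqsAt nets 272 9 pairs0 8 = 0 := by decide +kernel
theorem eq0 : ∀ p ∈ pairs0, (p.1.map (elN nets)).prod = (p.2.map (elN nets)).prod :=
  eqs_sound netsOK (by decide) (blocks_cons (blocks_cons (blocks_cons (blocks_cons (blocks_cons (blocks_cons (blocks_cons (blocks_cons (blocks_cons (blocks_nil _) e0_0) e0_1) e0_2) e0_3) e0_4) e0_5) e0_6) e0_7) e0_8)

theorem ruleN : RuleOK (elN nets) rels iv :=
  ruleOK_of_eqs (pairs := pairs0) rfl (eq0) (by decide +kernel)

end Cfsg.Agent.H17.HnM1
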