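import Cfsg.Agent.H58.Util

set_option autoImplicit false
set_option Elab.async false
set_option maxRecDepth 100000
set_option exponentiation.threshold 400000

namespace Cfsg.Agent.H17.HnM2

open Cfsg Cfsg.Agent.H58 Cfsg.Agent.H17

def m1_0 : Nat := nat_lit 0xc000c00000c
def m1_1 : Nat := nat_lit 0x100010000010
def m1_2 : Nat := nat_lit 0x202300230020230
def m1_3 : Nat := nat_lit 0xc000c00000c
def n1 : Net := (Net.cons m1_0 (nat_lit 4) (Net.cons m1_1 (nat_lit 1) (Net.cons m1_2 (nat_lit 2) (Net.cons m1_3 (nat_lit 4) Net.nil))))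
def n2 : Net := (Net.cons m1_3 (nat_lit 4) (Net.cons m1_2 (nat_lit 2) (Net.cons m1_1 (nat_lit 1) (Net.cons m1_0 (nat_lit 4) Net.nil))))
def m5_0 : Nat := nat_lit 0x50005000005
def n5 : Net := (Net.cons m5_0 (nat_lit 1) Net.nil)
def m6_0 : Nat := nat_lit 0x80008000008
def m6_1 : Nat := nat_lit 0x20002000002
def m6_2 : Nat := nat_lit 0x140014000014
def m6_3 : Nat := nat_lit 0x220022000022
def m6_4 : Nat := nat_lit 0xa000a00000a
def n6 : Net := (Net.cons m6_0 (nat_lit 4) (Net.cons m6_1 (nat_lit 2) (Net.cons m6_2 (nat_lit 1) (Net.cons m6_3 (nat_lit 2) (Net.cons m6_4 (nat_lit 4) Net.nil)))))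
def n7 : Net := (Net.cons m6_4 (nat_lit 4) (Net.cons m6_3 (nat_lit 2) (Net.cons m6_2 (nat_lit 1) (Net.cons m6_1 (nat_lit 2) (Net.cons m6_0 (nat_lit 4) Net.nil)))))
def m8_0 : Nat := nat_lit 0xa0a000a000a0a00
def m8_1 : Nat := nat_lit 0x101000100010100
def m8_2 : Nat := nat_lit 0x3131003100313100
def m8_3 : Nat := nat_lit 0xc0c000c000c0c00
def n8 : Net := (Net.cons m8_0 (nat_lit 4) (Net.cons m8_1 (nat_lit 1) (Net.cons m8_2 (nat_lit 2) (Net.cons m8_3 (nat_lit 4) Net.nil))))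
def n9 : Net := (Net.cons m8_3 (nat_lit 4) (Net.cons m8_2 (nat_lit 2) (Net.cons m8_1 (nat_lit 1) (Net.cons m8_0 (nat_lit 4) Net.nil))))

def nets : List Net := [Net.nil, n1, n2, Net.nil, Net.nil, n5, n6, n7, n8, n9]

def iv : Nat := 82494142169014799965759340548224

def rels : List (List Nat) := [[5, 5],
  [5, 1, 5, 1],
  [6, 6, 6, 6, 6],
  [2, 6, 1, 6, 6],
  [5, 6, 5, 6, 5, 6],
  [1, 1, 1, 1],
  [5, 8, 5, 9],
  [1, 1, 8, 1, 1, 9],
  [8, 8, 8, 8, 8, 8, 8],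
  [1, 8, 1, 8, 1, 8, 1, 8, 1, 8, 1, 8, 1, 1],
  [1, 9, 1, 8, 1, 9, 1, 8, 1, 9, 1, 8, 1, 1],
  [1, 9, 9, 1, 8, 8, 1, 9, 9, 1, 8, 8],
  [1, 9, 9, 9, 1, 8, 8, 8, 1, 9, 9, 9, 1, 8, 8, 8],
  [6, 8, 7, 9]]

def pairs0 : List (List Nat × List Nat) := [([2, 1], []),
  ([1, 2], []),
  ([4, 3], []),
  ([3, 4], []),
  ([5, 5], []),
  ([7, 6], []),
  ([6, 7], []),
  ([9, 8], []),
  ([8, 9], []),
  ([11, 10], []),
  ([10, 11], []),
  ([13, 12], []),
  ([12, 13], []),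
  ([15, 14], []),
  ([14, 15], []),
  ([17, 16], []),
  ([16, 17], []),
  ([5], [5]),
  ([5, 1], [2, 5]),
  ([6, 6, 6], [7, 7]),
  ([2, 6, 1], [7, 7]),
  ([5, 6, 5], [7, 5, 7]),
  ([1, 1], [2, 2]),
  ([5, 8], [8, 5]),
  ([1, 1, 8], [8, 2, 2]),
  ([8, 8, 8, 8], [9, 9, 9]),
  ([1, 8, 1, 8, 1, 8, 1], [2, 2, 9, 2, 9, 2, 9]),
  ([1, 9, 1, 8, 1, 9, 1], [2, 2, 9, 2, 8, 2, 9]),
  ([1, 9, 9, 1, 8, 8], [9, 9, 2, 8, 8, 2]),
  ([1, 9, 9, 9, 1, 8, 8, 8], [9, 9, 9, 2, 8, 8, 8, 2]),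
  ([6, 8], [8, 6])]
theorem ne0 : netErr 64 (getNet nets 0) = 0 := by decide +kernel
theorem ne1 : netErr 64 (getNet nets 1) = 0 := by decide +kernel
theorem ne2 : netErr 64 (getNet nets 2) = 0 := by decide +kernel
theorem ne3 : netErr 64 (getNet nets 3) = 0 := by decide +kernel
theorem ne4 : netErr 64 (getNet nets 4) = 0 := by decide +kernel
theorem ne5 : netErr 64 (getNet nets 5) = 0 := by decide +kernel
theorem ne6 : netErr 64 (getNet nets 6) = 0 := by decide +kernel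
theorem ne7 : netErr 64 (getNet nets 7) = 0 := by decide +kernel
theorem ne8 : netErr 64 (getNet nets 8) = 0 := by decide +kernel
theorem ne9 : netErr 64 (getNet nets 9) = 0 := by decide +kernel
theorem netsOK : NetsOK nets 64 := netsOK_of (show ∀ x < 10, _ from (blocks_cons (blocks_cons (blocks_cons (blocks_cons (blocks_cons (blocks_cons (blocks_cons (blocks_cons (blocks_cons (blocks_cons (blocks_nil _) ne0) ne1) ne2) ne3) ne4) ne5) ne6) ne7) ne8) ne9))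

theorem e0_0 : eqsAt nets 64 6 pairs0 0 = 0 := by decide +kernel
theorem e0_1 : eqsAt nets 64 6 pairs0 1 = 0 := by decide +kernel
theorem e0_2 : eqsAt nets 64 6 pairs0 2 = 0 := by decide +kernel
theorem e0_3 : eqsAt nets 64 6 pairs0 3 = 0 := by decide +kernel
theorem e0_4 : eqsAt nets 64 6 pairs0 4 = 0 := by decide +kernel
theorem e0_5 : eqsAt nets 64 6 pairs0 5 = 0 := by decide +kernel
theorem eq0 : ∀ p ∈ pairs0, (p.1.map (elN nets)).prod = (p.2.map (elN nets)).prod :=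
  eqs_sound netsOK (by decide) (blocks_cons (blocks_cons (blocks_cons (blocks_cons (blocks_cons (blocks_cons (blocks_nil _) e0_0) e0_1) e0_2) e0_3) e0_4) e0_5)

theorem ruleN : RuleOK (elN nets) rels iv :=
  ruleOK_of_eqs (pairs := pairs0) rfl (eq0) (by decide +kernel)

end Cfsg.Agent.H17.HnM2
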