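import Cfsg.Agent.H58.Util

set_option autoImplicit false
set_option Elab.async false
set_option maxRecDepth 100000
set_option exponentiation.threshold 400000

namespace Cfsg.Agent.H17.ThM1

open Cfsg Cfsg.Agent.H58 Cfsg.Agent.H17

def n1 : Net := Net.nil
def n3 : Net := Net.nil
def m4_0 : Nat := nat_lit 0x6730710040947050
def m4_1 : Nat := nat_lit 0xccc2141a000000009be84470
def m4_2 : Nat := nat_lit 0xace0000034520000ff800000e744
def m4_3 : Nat := nat_lit 0x4a0030004000040006008400640028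
def m4_4 : Nat := nat_lit 0x80c080c06060e080002080c0c080402
def m4_5 : Nat := nat_lit 0x2020000200222000000002202202000
def m4_6 : Nat := nat_lit 0x1114105410114410010051451104010
def m4_7 : Nat := nat_lit 0x321132313223001100032222021012
def m4_8 : Nat := nat_lit 0x1010e07060a08020401050e06080c
def m4_9 : Nat := nat_lit 0x2b00d900140084000e001d007a00d0
def m4_10 : Nat := nat_lit 0x38f000053760000ff800000ab42
def m4_11 : Nat := nat_lit 0x8ac6034e000000009bd84670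
def m4_12 : Nat := nat_lit 0x6730710040947050
def n4 : Net := (Net.cons m4_0 (nat_lit 64) (Net.cons m4_1 (nat_lit 32) (Net.cons m4_2 (nat_lit 16) (Net.cons m4_3 (nat_lit 8) (Net.cons m4_4 (nat_lit 4) (Net.cons m4_5 (nat_lit 2) (Net.cons m4_6 (nat_lit 1) (Net.cons m4_7 (nat_lit 2) (Net.cons m4_8 (nat_lit 4) (Net.cons m4_9 (nat_lit 8) (Net.cons m4_10 (nat_lit 16) (Net.cons m4_11 (nat_lit 32) (Net.cons m4_12 (nat_lit 64) Net.nil)))))))))))))
def m5_0 : Nat := nat_lit 0x8c28624fc1124280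
def m5_1 : Nat := nat_lit 0x2b5025ea0000000061528190
def m5_2 : Nat := nat_lit 0xbcb60000a8680000748400007b74
def m5_3 : Nat := nat_lit 0xd400b0003400e00012006c00180028
def m5_4 : Nat := nat_lit 0x60c0406000200080804020c0008
def m5_5 : Nat := nat_lit 0x2000200200202000022000000200000
def m5_6 : Nat := nat_lit 0x41151445401401040014550005400104
def m5_7 : Nat := nat_lit 0x31233121201333211111032333232020
def m5_8 : Nat := nat_lit 0xe0902020401000202070804020c0008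
def m5_9 : Nat := nat_lit 0xf000dc00bc00ed0012006c00180078
def m5_10 : Nat := nat_lit 0x13410000ec790000748400007b74
def m5_11 : Nat := nat_lit 0x2b5025ea0000000061528190
def m5_12 : Nat := nat_lit 0x8c28624fc1124280
def n5 : Net := (Net.cons m5_0 (nat_lit 64) (Net.cons m5_1 (nat_lit 32) (Net.cons m5_2 (nat_lit 16) (Net.cons m5_3 (nat_lit 8) (Net.cons m5_4 (nat_lit 4) (Net.cons m5_5 (nat_lit 2) (Net.cons m5_6 (nat_lit 1) (Net.cons m5_7 (nat_lit 2) (Net.cons m5_8 (nat_lit 4) (Net.cons m5_9 (nat_lit 8) (Net.cons m5_10 (nat_lit 16) (Net.cons m5_11 (nat_lit 32) (Net.cons m5_12 (nat_lit 64) Net.nil)))))))))))))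
def m6_0 : Nat := nat_lit 0xa101d30e728e7890
def m6_1 : Nat := nat_lit 0x198aa91a00000000fc808212
def m6_2 : Nat := nat_lit 0x81120000c3c400009b3a00004544
def m6_3 : Nat := nat_lit 0xa000e8000a0026003800bc00ba0096
def m6_4 : Nat := nat_lit 0x20400020a08080a0800000e00020c0a
def m6_5 : Nat := nat_lit 0x22022200022020022000000002200200
def m6_6 : Nat := nat_lit 0x11511454444444114500545404405414
def m6_7 : Nat := nat_lit 0x20023113212013031003301230303120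
def m6_8 : Nat := nat_lit 0x2030901000b0f07030600070207060e
def m6_9 : Nat := nat_lit 0x38000f002900bb000700d000a40072
def m6_10 : Nat := nat_lit 0x1966000022670000b3ce000058d4
def m6_11 : Nat := nat_lit 0xb85e425200000000f2c95038
def m6_12 : Nat := nat_lit 0xa103b542a8708536
def n6 : Net := (Net.cons m6_0 (nat_lit 64) (Net.cons m6_1 (nat_lit 32) (Net.cons m6_2 (nat_lit 16) (Net.cons m6_3 (nat_lit 8) (Net.cons m6_4 (nat_lit 4) (Net.cons m6_5 (nat_lit 2) (Net.cons m6_6 (nat_lit 1) (Net.cons m6_7 (nat_lit 2) (Net.cons m6_8 (nat_lit 4) (Net.cons m6_9 (nat_lit 8) (Net.cons m6_10 (nat_lit 16) (Net.cons m6_11 (nat_lit 32) (Net.cons m6_12 (nat_lit 64) Net.nil)))))))))))))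
def n7 : Net := (Net.cons m6_12 (nat_lit 64) (Net.cons m6_11 (nat_lit 32) (Net.cons m6_10 (nat_lit 16) (Net.cons m6_9 (nat_lit 8) (Net.cons m6_8 (nat_lit 4) (Net.cons m6_7 (nat_lit 2) (Net.cons m6_6 (nat_lit 1) (Net.cons m6_5 (nat_lit 2) (Net.cons m6_4 (nat_lit 4) (Net.cons m6_3 (nat_lit 8) (Net.cons m6_2 (nat_lit 16) (Net.cons m6_1 (nat_lit 32) (Net.cons m6_0 (nat_lit 64) Net.nil)))))))))))))
def m8_0 : Nat := nat_lit 0xdeb7f43ffadad510
def m8_1 : Nat := nat_lit 0xb6ea8d2000000000ea6b2384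
def m8_2 : Nat := nat_lit 0xceb4000070520000e9a80000e192
def m8_3 : Nat := nat_lit 0x28009c000800c00064007000340072
def m8_4 : Nat := nat_lit 0x80e0c02000e0e0406000600040c00
def m8_5 : Nat := nat_lit 0x20220200020000200220000002200
def m8_6 : Nat := nat_lit 0x14444444445544144114441010541410
def m8_7 : Nat := nat_lit 0x10021221033121230323020120302302
def m8_8 : Nat := nat_lit 0x1060e040907000e04030704090c00
def m8_9 : Nat := nat_lit 0xa00c800590090000c00c200700066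
def m8_10 : Nat := nat_lit 0xa6880000281d000001520000c45a
def m8_11 : Nat := nat_lit 0x6495f3ae00000000eaf40c0c
def m8_12 : Nat := nat_lit 0xde2be62bf794e998
def n8 : Net := (Net.cons m8_0 (nat_lit 64) (Net.cons m8_1 (nat_lit 32) (Net.cons m8_2 (nat_lit 16) (Net.cons m8_3 (nat_lit 8) (Net.cons m8_4 (nat_lit 4) (Net.cons m8_5 (nat_lit 2) (Net.cons m8_6 (nat_lit 1) (Net.cons m8_7 (nat_lit 2) (Net.cons m8_8 (nat_lit 4) (Net.cons m8_9 (nat_lit 8) (Net.cons m8_10 (nat_lit 16) (Net.cons m8_11 (nat_lit 32) (Net.cons m8_12 (nat_lit 64) Net.nil)))))))))))))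
def n9 : Net := (Net.cons m8_12 (nat_lit 64) (Net.cons m8_11 (nat_lit 32) (Net.cons m8_10 (nat_lit 16) (Net.cons m8_9 (nat_lit 8) (Net.cons m8_8 (nat_lit 4) (Net.cons m8_7 (nat_lit 2) (Net.cons m8_6 (nat_lit 1) (Net.cons m8_5 (nat_lit 2) (Net.cons m8_4 (nat_lit 4) (Net.cons m8_3 (nat_lit 8) (Net.cons m8_2 (nat_lit 16) (Net.cons m8_1 (nat_lit 32) (Net.cons m8_0 (nat_lit 64) Net.nil)))))))))))))
def m10_0 : Nat := nat_lit 0x3cf5066e35a6ecb8
def m10_1 : Nat := nat_lit 0x2c713e1e000000003f4f0920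
def m10_2 : Nat := nat_lit 0xc41800002e3e0000154c0000db2c
def m10_3 : Nat := nat_lit 0x820088007400ac0062008200200000
def m10_4 : Nat := nat_lit 0xa040800080a060a0a0e0c0006020c04
def m10_5 : Nat := nat_lit 0x22200000000002202002202002000
def m10_6 : Nat := nat_lit 0x4511414405005011414554114104555
def m10_7 : Nat := nat_lit 0x30322002301002031300031102012030
def m10_8 : Nat := nat_lit 0x20d08000509050703000c0f06060c04
def m10_9 : Nat := nat_lit 0x82008f00520083009d008200a90024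
def m10_10 : Nat := nat_lit 0xe8da0000d1c10000150c0000db6c
def m10_11 : Nat := nat_lit 0x2c713e1e000000003f060864
def m10_12 : Nat := nat_lit 0x3cf5066e35a6ecb8
def n10 : Net := (Net.cons m10_0 (nat_lit 64) (Net.cons m10_1 (nat_lit 32) (Net.cons m10_2 (nat_lit 16) (Net.cons m10_3 (nat_lit 8) (Net.cons m10_4 (nat_lit 4) (Net.cons m10_5 (nat_lit 2) (Net.cons m10_6 (nat_lit 1) (Net.cons m10_7 (nat_lit 2) (Net.cons m10_8 (nat_lit 4) (Net.cons m10_9 (nat_lit 8) (Net.cons m10_10 (nat_lit 16) (Net.cons m10_11 (nat_lit 32) (Net.cons m10_12 (nat_lit 64) Net.nil)))))))))))))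
def n11 : Net := (Net.cons m10_12 (nat_lit 64) (Net.cons m10_11 (nat_lit 32) (Net.cons m10_10 (nat_lit 16) (Net.cons m10_9 (nat_lit 8) (Net.cons m10_8 (nat_lit 4) (Net.cons m10_7 (nat_lit 2) (Net.cons m10_6 (nat_lit 1) (Net.cons m10_5 (nat_lit 2) (Net.cons m10_4 (nat_lit 4) (Net.cons m10_3 (nat_lit 8) (Net.cons m10_2 (nat_lit 16) (Net.cons m10_1 (nat_lit 32) (Net.cons m10_0 (nat_lit 64) Net.nil)))))))))))))
def n12 : Net := Net.nil

def nets : List Net := [Net.nil, n1, Net.nil, n3, n4, n5, n6, n7, n8, n9, n10, n11, n12]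

def iv : Nat := 57419096369272418213952

def rels : List (List Nat) := [[1, 5, 1, 5],
  [1, 4, 3, 4, 3, 4, 3, 4, 3],
  [3, 5, 3, 5],
  [4, 5, 4, 5, 4, 5],
  [6, 6, 6, 6, 6, 6, 6],
  [7, 1, 6, 1],
  [7, 3, 6, 3],
  [6, 4, 6, 4],
  [5, 7, 5, 7, 7, 5, 6, 6, 6],
  [8, 8, 8],
  [9, 1, 8, 1],
  [9, 3, 8, 3],
  [9, 4, 8, 4],
  [9, 5, 8, 5],
  [9, 6, 8, 7, 7],
  [10, 10, 3, 1],
  [11, 1, 10, 1],
  [11, 3, 10, 3],
  [11, 5, 10, 5],
  [4, 5, 11, 4, 10, 4, 5, 11, 4, 10],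
  [11, 8, 10, 8],
  [5, 7, 7, 11, 6, 6, 5, 7, 7, 10, 6, 6],
  [1, 3, 7, 11, 7, 11, 7, 11],
  [1, 3, 7, 11, 6, 10, 7, 11, 6, 10, 7, 11, 6, 10, 7, 11, 6, 10],
  [4, 7, 7, 10, 6, 6, 4, 7, 7, 10, 6, 6, 4, 7, 7, 10, 6, 6, 4, 7, 7, 10, 5, 4, 3, 4, 5, 6, 6, 6, 5, 4, 3, 4, 5, 7, 4, 3, 4, 3, 1],
  [12, 11, 4, 3, 4, 10],
  [3, 4, 5, 6, 3, 4, 5, 6, 3, 4, 5, 6, 3, 4, 5, 6, 3, 4, 5, 6, 3, 4, 5, 6, 3, 4, 5, 6, 3, 4, 5, 6, 3, 4, 5, 6]]

def pairs0 : List (List Nat × List Nat) := [([1, 1], []),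
  ([2, 2], []),
  ([3, 3], []),
  ([4, 4], []),
  ([5, 5], []),
  ([7, 6], []),
  ([6, 7], []),
  ([9, 8], []),
  ([8, 9], []),
  ([11, 10], []),
  ([10, 11], []),
  ([12, 12], []),
  ([1, 5], [5, 1]),
  ([1, 4, 3, 4, 3], [3, 4, 3, 4]),
  ([3, 5], [5, 3]),
  ([4, 5, 4], [5, 4, 5]),
  ([6, 6, 6, 6], [7, 7, 7]),
  ([7, 1], [1, 7]),
  ([7, 3], [3, 7]),
  ([6, 4], [4, 7]),
  ([5, 7, 5, 7, 7], [7, 7, 7, 5]),
  ([8, 8], [9]),
  ([9, 1], [1, 9]),
  ([9, 3], [3, 9]),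
  ([9, 4], [4, 9]),
  ([9, 5], [5, 9]),
  ([9, 6, 8], [6, 6]),
  ([10, 10], [1, 3]),
  ([11, 1], [1, 11]),
  ([11, 3], [3, 11]),
  ([11, 5], [5, 11]),
  ([4, 5, 11, 4, 10], [11, 4, 10, 5, 4]),
  ([11, 8], [9, 11]),
  ([5, 7, 7, 11, 6, 6], [7, 7, 11, 6, 6, 5]),
  ([1, 3, 7, 11], [10, 6, 10, 6]),
  ([1, 3, 7, 11, 6, 10, 7, 11, 6], [11, 7, 10, 6, 11, 7, 10, 6, 11]),
  ([4, 7, 7, 10, 6, 6, 4, 7, 7, 10, 6, 6, 4, 7, 7, 10, 6, 6, 4, 7, 7], [1, 3, 4, 3, 4, 6, 5, 4, 3, 4, 5, 7, 7, 7, 5, 4, 3, 4, 5, 11]),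
  ([12, 11, 4], [11, 4, 3]),
  ([3, 4, 5, 6, 3, 4, 5, 6, 3, 4, 5, 6, 3, 4, 5, 6, 3, 4], [7, 5, 4, 3, 7, 5, 4, 3, 7, 5, 4, 3, 7, 5, 4, 3, 7, 5])]
theorem ne0 : netErr 128 (getNet nets 0) = 0 := by decide +kernel
theorem ne1 : netErr 128 (getNet nets 1) = 0 := by decide +kernel
theorem ne2 : netErr 128 (getNet nets 2) = 0 := by decide +kernel
theorem ne3 : netErr 128 (getNet nets 3) = 0 := by decide +kernel
theorem ne4 : netErr 128 (getNet nets 4) = 0 := by decide +kernel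
theorem ne5 : netErr 128 (getNet nets 5) = 0 := by decide +kernel
theorem ne6 : netErr 128 (getNet nets 6) = 0 := by decide +kernel
theorem ne7 : netErr 128 (getNet nets 7) = 0 := by decide +kernel
theorem ne8 : netErr 128 (getNet nets 8) = 0 := by decide +kernel
theorem ne9 : netErr 128 (getNet nets 9) = 0 := by decide +kernel
theorem ne10 : netErr 128 (getNet nets 10) = 0 := by decide +kernel
theorem ne11 : netErr 128 (getNet nets 11) = 0 := by decide +kernel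
theorem ne12 : netErr 128 (getNet nets 12) = 0 := by decide +kernel
theorem netsOK : NetsOK nets 128 := netsOK_of (show ∀ x < 13, _ from (blocks_cons (blocks_cons (blocks_cons (blocks_cons (blocks_cons (blocks_cons (blocks_cons (blocks_cons (blocks_cons (blocks_cons (blocks_cons (blocks_cons (blocks_cons (blocks_nil _) ne0) ne1) ne2) ne3) ne4) ne5) ne6) ne7) ne8) ne9) ne10) ne11) ne12))

theorem e0_0 : eqsAt nets 128 7 pairs0 0 = 0 := by decide +kernel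
theorem e0_1 : eqsAt nets 128 7 pairs0 1 = 0 := by decide +kernel
theorem e0_2 : eqsAt nets 128 7 pairs0 2 = 0 := by decide +kernel
theorem e0_3 : eqsAt nets 128 7 pairs0 3 = 0 := by decide +kernel
theorem e0_4 : eqsAt nets 128 7 pairs0 4 = 0 := by decide +kernel
theorem e0_5 : eqsAt nets 128 7 pairs0 5 = 0 := by decide +kernel
theorem e0_6 : eqsAt nets 128 7 pairs0 6 = 0 := by decide +kernel
theorem eq0 : ∀ p ∈ pairs0, (p.1.map (elN nets)).prod = (p.2.map (elN nets)).prod :=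
  eqs_sound netsOK (by decide) (blocks_cons (blocks_cons (blocks_cons (blocks_cons (blocks_cons (blocks_cons (blocks_cons (blocks_nil _) e0_0) e0_1) e0_2) e0_3) e0_4) e0_5) e0_6)

theorem ruleN : RuleOK (elN nets) rels iv :=
  ruleOK_of_eqs (pairs := pairs0) rfl (eq0) (by decide +kernel)

end Cfsg.Agent.H17.ThM1
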